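import Groth.Agent.EtLimit.HTools
import Groth.Agent.CohCrit13.Formal
import Groth.Agent.BigSiteLib.HofPushEt
import Groth.Agent.EtFound.UnivInjPush
import Groth.Agent.EtFound.AbRecollement
import Groth.Agent.EtFound.PushExact
import Groth.Agent.SiteBase.LerayTop

/-!
# Tools for the cohomology sequence of an abstract blow-up square
-/

set_option autoImplicit false
set_option linter.style.haveILetI false
set_option backward.isDefEq.respectTransparency.types false
set_option maxHeartbeats 800000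

universe u

open CategoryTheory CategoryTheory.Limits AlgebraicGeometry Opposite

namespace Groth.Agent.BlowSq3

open Groth.Agent.EtLimit Groth.Agent.EtFound

section chase

variable (A M Q A' M' Q' : ℕ → Type*) [∀ n, AddCommGroup (A n)] [∀ n, AddCommGroup (M n)]
  [∀ n, AddCommGroup (Q n)] [∀ n, AddCommGroup (A' n)] [∀ n, AddCommGroup (M' n)] [∀ n, AddCommGroup (Q' n)]

/-- a long exact sequence -/
structure LES where
  f : ∀ n, A n →+ M n
  g : ∀ n, M n →+ Q n
  d : ∀ n, Q n →+ A (n + 1)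
  inj : Function.Injective (f 0)
  ex₂ : ∀ n, Function.Exact (f n) (g n)
  ex₃ : ∀ n, Function.Exact (g n) (d n)
  ex₁ : ∀ n, Function.Exact (d n) (f (n + 1))

variable {A M Q A' M' Q'}

/-- the sequence of a map of long exact sequences which is bijective on the first terms -/
theorem les_mayerVietoris (T : LES A M Q) (B : LES A' M' Q') (a : ∀ n, A n →+ A' n) (m : ∀ n, M n →+ M' n)
    (c : ∀ n, Q n →+ Q' n) (hf : ∀ n x, m n (T.f n x) = B.f n (a n x))
    (hg : ∀ n x, c n (T.g n x) = B.g n (m n x)) (hd : ∀ n x, a (n + 1) (T.d n x) = B.d n (c n x))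
    (ha : ∀ n, Function.Bijective (a n)) :
    ∃ δ : ∀ n, Q' n →+ M (n + 1), Function.Injective (fun x => (m 0 x, T.g 0 x)) ∧
      ∀ n, Function.Exact (fun x => (m n x, T.g n x)) (fun uv : M' n × Q n => B.g n uv.1 - c n uv.2) ∧
        Function.Exact (fun uv : M' n × Q n => B.g n uv.1 - c n uv.2) (δ n) ∧
        Function.Exact (δ n) (fun x => (m (n + 1) x, T.g (n + 1) x)) := by
  let e := fun n => AddEquiv.ofBijective (a n) (ha n)
  have he : ∀ n (y : A' n), a n ((e n).symm y) = y := fun n y => (e n).apply_symm_apply y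
  refine ⟨fun n => (T.f (n + 1)).comp ((e (n + 1)).symm.toAddMonoidHom.comp (B.d n)), ?_, fun n => ⟨?_, ?_, ?_⟩⟩
  · intro x y h
    obtain ⟨h1, h2⟩ := Prod.mk.inj h
    obtain ⟨k, hk⟩ := (T.ex₂ 0 (x - y)).1 (by rw [map_sub, h2, sub_self])
    have : B.f 0 (a 0 k) = 0 := by rw [← hf, hk, map_sub, h1, sub_self]
    have hk0 : k = 0 := (ha 0).1 ((B.inj (this.trans (map_zero _).symm)).trans (map_zero _).symm)
    rw [hk0, map_zero] at hk
    exact sub_eq_zero.1 hk.symm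
  · rintro ⟨u, y⟩
    constructor
    · intro h
      have h' : B.g n u = c n y := sub_eq_zero.1 h
      have hy : T.d n y = 0 := (ha (n + 1)).1 (by
        rw [hd, ← h', (B.ex₃ n).apply_apply_eq_zero u, map_zero])
      obtain ⟨x0, rfl⟩ := (T.ex₃ n y).1 hy
      obtain ⟨k', hk'⟩ := (B.ex₂ n (u - m n x0)).1 (by rw [map_sub, h', hg, sub_self])
      refine ⟨x0 + T.f n ((e n).symm k'), Prod.ext ?_ ?_⟩
      · show m n (x0 + _) = u
        rw [map_add, hf, he, hk', add_sub_cancel]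
      · show T.g n (x0 + _) = T.g n x0
        rw [map_add, (T.ex₂ n).apply_apply_eq_zero, add_zero]
    · rintro ⟨x, hx⟩
      obtain ⟨rfl, rfl⟩ := Prod.mk.inj hx
      show B.g n (m n x) - c n (T.g n x) = 0
      rw [hg, sub_self]
  · intro w
    show T.f (n + 1) ((e (n + 1)).symm (B.d n w)) = 0 ↔ _
    constructor
    · intro h
      obtain ⟨y, hy⟩ := (T.ex₁ n _).1 h
      have h2 : B.d n (w - c n y) = 0 := by rw [map_sub, ← hd, hy, he, sub_self]
      obtain ⟨u, hu⟩ := (B.ex₃ n _).1 h2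
      refine ⟨(u, -y), ?_⟩
      show B.g n u - c n (-y) = w
      rw [hu, map_neg, sub_neg_eq_add, sub_add_cancel]
    · rintro ⟨⟨u, y⟩, rfl⟩
      show T.f (n + 1) ((e (n + 1)).symm (B.d n (B.g n u - c n y))) = 0
      have h0 : (e (n + 1)).symm (B.d n (c n y)) = T.d n y := by
        rw [← hd]; exact (e (n + 1)).symm_apply_apply _
      rw [map_sub, (B.ex₃ n).apply_apply_eq_zero u, zero_sub, map_neg, map_neg, h0,
        (T.ex₁ n).apply_apply_eq_zero y, neg_zero]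
  · intro x
    constructor
    · intro h
      obtain ⟨h1, h2⟩ := Prod.mk.inj h
      obtain ⟨k, rfl⟩ := (T.ex₂ (n + 1) x).1 h2
      obtain ⟨w, hw⟩ := (B.ex₁ n (a (n + 1) k)).1 (by rw [← hf]; exact h1)
      refine ⟨w, ?_⟩
      show T.f (n + 1) ((e (n + 1)).symm (B.d n w)) = _
      rw [hw]
      exact congrArg _ ((e (n + 1)).symm_apply_apply k)
    · rintro ⟨w, rfl⟩
      refine Prod.ext ?_ ?_
      · show m (n + 1) (T.f (n + 1) ((e (n + 1)).symm (B.d n w))) = 0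
        rw [hf, he, (B.ex₁ n).apply_apply_eq_zero]
      · exact (T.ex₂ (n + 1)).apply_apply_eq_zero _

/-- transport of an exact sequence along bijections of the summand and of the last term -/
theorem transport_mayerVietoris {M M' Q R Q' R' : ℕ → Type*} [∀ n, AddCommGroup (M n)] [∀ n, AddCommGroup (M' n)]
    [∀ n, AddCommGroup (Q n)] [∀ n, AddCommGroup (R n)] [∀ n, AddCommGroup (Q' n)] [∀ n, AddCommGroup (R' n)]
    (Φ : ∀ n, Q n →+ R n) (hΦ : ∀ n, Function.Bijective (Φ n)) (Ψ : ∀ n, Q' n →+ R' n) (hΨ : ∀ n, Function.Bijective (Ψ n))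
    {φ : ∀ n, M n → M' n × Q n} {ψ : ∀ n, M' n × Q n → Q' n} {φ' : ∀ n, M n → M' n × R n}
    {ψ' : ∀ n, M' n × R n → R' n} (δ : ∀ n, Q' n →+ M (n + 1))
    (hφ : ∀ n x, φ' n x = ((φ n x).1, Φ n (φ n x).2)) (hψ : ∀ n u y, ψ' n (u, Φ n y) = Ψ n (ψ n (u, y)))
    (hinj : Function.Injective (φ 0))
    (hex : ∀ n, Function.Exact (φ n) (ψ n) ∧ Function.Exact (ψ n) (δ n) ∧ Function.Exact (δ n) (φ (n + 1))) :
    ∃ δ' : ∀ n, R' n →+ M (n + 1), Function.Injective (φ' 0) ∧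
      ∀ n, Function.Exact (φ' n) (ψ' n) ∧ Function.Exact (ψ' n) (δ' n) ∧ Function.Exact (δ' n) (φ' (n + 1)) := by
  let e := fun n => AddEquiv.ofBijective (Ψ n) (hΨ n)
  have he : ∀ n w, (e n).symm (Ψ n w) = w := fun n w => (e n).symm_apply_apply w
  refine ⟨fun n => (δ n).comp (e n).symm.toAddMonoidHom, ?_, fun n => ⟨?_, ?_, ?_⟩⟩
  · intro x y h
    rw [hφ, hφ] at h
    obtain ⟨h1, h2⟩ := Prod.mk.inj h
    exact hinj (Prod.ext h1 ((hΦ 0).1 h2))
  · rintro ⟨u, r⟩
    obtain ⟨y, rfl⟩ := (hΦ n).2 r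
    rw [hψ]
    refine ⟨fun h => ?_, ?_⟩
    · obtain ⟨x, hx⟩ := ((hex n).1 (u, y)).1 ((hΨ n).1 (h.trans (map_zero _).symm))
      exact ⟨x, by rw [hφ, hx]⟩
    · rintro ⟨x, hx⟩
      rw [hφ] at hx
      obtain ⟨h1, h2⟩ := Prod.mk.inj hx
      have : φ n x = (u, y) := Prod.ext h1 ((hΦ n).1 h2)
      rw [((hex n).1 (u, y)).2 ⟨x, this⟩, map_zero]
  · intro r
    obtain ⟨w, rfl⟩ := (hΨ n).2 r
    show δ n ((e n).symm (Ψ n w)) = 0 ↔ _
    rw [he]
    refine ⟨fun h => ?_, ?_⟩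
    · obtain ⟨⟨u, y⟩, rfl⟩ := ((hex n).2.1 w).1 h
      exact ⟨(u, Φ n y), hψ n u y⟩
    · rintro ⟨⟨u, r'⟩, h⟩
      obtain ⟨y, rfl⟩ := (hΦ n).2 r'
      rw [hψ] at h
      exact ((hex n).2.1 w).2 ⟨(u, y), (hΨ n).1 h⟩
  · intro x
    rw [hφ]
    refine ⟨fun h => ?_, ?_⟩
    · obtain ⟨h1, h2⟩ := Prod.mk.inj h
      obtain ⟨w, hw⟩ := ((hex n).2.2 x).1 (Prod.ext h1 ((hΦ (n + 1)).1 (h2.trans (map_zero _).symm)))
      refine ⟨Ψ n w, ?_⟩
      show δ n ((e n).symm (Ψ n w)) = x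
      rw [he]
      exact hw
    · rintro ⟨r, rfl⟩
      obtain ⟨w, rfl⟩ := (hΨ n).2 r
      show ((φ (n + 1) (δ n ((e n).symm (Ψ n w)))).1, Φ (n + 1) (φ (n + 1) (δ n ((e n).symm (Ψ n w)))).2) = 0
      rw [he, ((hex n).2.2 (δ n w)).2 ⟨w, rfl⟩]
      exact Prod.ext rfl (map_zero _)

end chase

section cohomology

variable {X Y : Scheme.{u}}

/-- the long exact cohomology sequence -/
noncomputable def cohLES {S : ShortComplex (EtCoh.Ab X)} (hS : S.ShortExact) :
    LES (fun n => EtCoh.H X S.X₁ n) (fun n => EtCoh.H X S.X₂ n) (fun n => EtCoh.H X S.X₃ n) where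
  f n := hmap S.f n
  g n := hmap S.g n
  d n := hδ hS rfl
  inj := haveI := hS.mono_f; hmap_zero_injective S.f
  ex₂ n x := ⟨exists_hmap_of_hmap_eq_zero hS n x, by
    rintro ⟨a, rfl⟩
    rw [hmap_comp, S.zero]
    exact hmap_zero_map n a⟩
  ex₃ n x := ⟨exists_hmap_of_hδ_eq_zero hS rfl x, by rintro ⟨a, rfl⟩; exact hδ_hmap_g hS rfl a⟩
  ex₁ n x := ⟨exists_hδ_of_hmap_eq_zero hS rfl x, by
    rintro ⟨a, rfl⟩
    show Abelian.Ext.comp (Abelian.Ext.comp a hS.extClass rfl) (Abelian.Ext.mk₀ S.f) (add_zero (n + 1)) = 0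
    rw [Abelian.Ext.comp_assoc_of_third_deg_zero, ShortComplex.ShortExact.extClass_comp, Abelian.Ext.comp_zero]⟩

/-- cohomology of a sheaf recovered from its inverse image -/
theorem hofPush_hmap_unit (f : X ⟶ Y) [PreservesFiniteLimits (EtCoh.pull f)] (M : EtCoh.Ab Y) (p : ℕ)
    (x : EtCoh.H Y M p) :
    EtLim.HofPush f ((EtCoh.pull f).obj M) p (hmap ((EtCoh.pullPushAdj f).unit.app M) p x) =
      EtCore.Hpull f M p x := by
  refine Eq.trans ?_ (CohCrit13.hThen_id f p x)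
  refine (HpullThen_hmap f (𝟙 _) ((EtCoh.pullPushAdj f).counit.app ((EtCoh.pull f).obj M))
    ((EtCoh.pullPushAdj f).unit.app M) (𝟙 _) ?_ p x).trans (CohCrit13.hmap_id p _)
  exact ((EtCoh.pullPushAdj f).left_triangle_components M).trans (Category.comp_id _).symm

/-- pullback of cohomology is bijective when the sheaf is the direct image of its inverse image -/
theorem Hpull_bijective_of_unit (f : X ⟶ Y) [PreservesFiniteLimits (EtCoh.pull f)] (M : EtCoh.Ab Y)
    (hu : IsIso ((EtCoh.pullPushAdj f).unit.app M))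
    (hR : ∀ q : ℕ, 0 < q → IsZero ((EtCoh.Rpush f q).obj ((EtCoh.pull f).obj M))) (p : ℕ) :
    Function.Bijective (EtCore.Hpull f M p) := by
  have h := (BigSiteLib.hofPush_bijective f _ hR p).comp
    (CohCrit13.hmap_bijective_of_isIso ((EtCoh.pullPushAdj f).unit.app M) p)
  exact (funext (hofPush_hmap_unit f M p) : _ = _) ▸ h

/-- higher direct images along integral morphisms vanish -/
theorem isZero_Rpush_of_integral (f : X ⟶ Y) [IsIntegralHom f] (G : EtCoh.Ab X) (q : ℕ) (hq : 0 < q) :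
    IsZero ((EtCoh.Rpush f q).obj G) := by
  obtain ⟨m, rfl⟩ := Nat.exists_eq_succ_of_ne_zero hq.ne'
  have := push_preservesFiniteLimits f
  have := push_preservesFiniteColimits f
  exact LerayDegen.isZero_rightDerived_of_exact (EtCoh.push f) G m

theorem isZero_stalk_pull (f : X ⟶ Y) (G : EtCoh.Ab Y) {Ω : Type u} [Field Ω] [IsSepClosed Ω]
    (ξ : Spec (CommRingCat.of Ω) ⟶ X) :
    IsZero ((EtCoh.stalk ξ).obj ((EtCoh.pull f).obj G)) ↔ IsZero ((EtCoh.stalk (ξ ≫ f)).obj G) :=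
  ((stalkPullIso f ξ).app G).isZero_iff

end cohomology

end Groth.Agent.BlowSq3
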