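import Groth.Agent.BlowSq3.Basic
import Groth.Agent.GabberAff13.Proper
import Groth.Agent.BCCrit13.Basic
import Groth.Agent.EtFound.AcyclicComp
import Groth.Agent.EtMVLib.PullSquare

/-!
# The cohomology sequence of an abstract blow-up square
-/

set_option autoImplicit false
set_option linter.style.haveILetI false
set_option backward.isDefEq.respectTransparency.types false
set_option maxHeartbeats 800000

universe u

open CategoryTheory CategoryTheory.Limits AlgebraicGeometry Opposite

namespace Groth.Agent.BlowSq3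

open Groth.Agent.EtLimit Groth.Agent.EtFound

variable {X X' Z : Scheme.{u}}

/-- an isomorphism read off from a commutative square of functors -/
theorem isIso_map_unit_of_square {A B C D : Type*} [Category* A] [Category* B] [Category* C] [Category* D]
    {P : A ⥤ B} {R : B ⥤ A} (adj : P ⊣ R) {Q : B ⥤ D} {G : A ⥤ C} {H : C ⥤ D} [H.ReflectsIsomorphisms]
    (s : P ⋙ Q ≅ G ⋙ H) (K : A) (r : H.obj (G.obj (R.obj (P.obj K))) ⟶ Q.obj (P.obj K)) [IsIso r]
    (h1 : s.hom.app (R.obj (P.obj K)) ≫ r = Q.map (adj.counit.app (P.obj K))) :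
    IsIso (G.map (adj.unit.app K)) := by
  have n : Q.map (P.map (adj.unit.app K)) ≫ s.hom.app (R.obj (P.obj K)) =
      s.hom.app K ≫ H.map (G.map (adj.unit.app K)) := s.hom.naturality (adj.unit.app K)
  have h3 : (s.hom.app K ≫ H.map (G.map (adj.unit.app K))) ≫ r = 𝟙 _ := by
    rw [← n, Category.assoc, h1, ← Q.map_comp]
    exact (congrArg Q.map (adj.left_triangle_components K)).trans (Q.map_id _)
  haveI : IsIso (s.hom.app K ≫ H.map (G.map (adj.unit.app K))) := IsIso.of_isIso_fac_right h3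
  haveI : IsIso (H.map (G.map (adj.unit.app K))) := IsIso.of_isIso_comp_left (s.hom.app K) _
  exact isIso_of_reflects_iso (G.map (adj.unit.app K)) H

/-- the unit restricted along the base of a cartesian square whose other leg is an isomorphism -/
theorem isIso_pull_unit_of_square {S T : Scheme.{u}} (b : X' ⟶ X) (g : S ⟶ X) (f' : T ⟶ S) (g' : T ⟶ X')
    [IsProper b] [IsIso f'] (sq : IsPullback g' f' b g) (K : EtCoh.Ab X) :
    IsIso ((EtCoh.pull g).map ((EtCoh.pullPushAdj b).unit.app K)) := by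
  haveI := ProperBC13.isIso_baseChange0 b g f' g' sq ((EtCoh.pull b).obj K)
  haveI := counit_isIso_of_integral_univInj f' ((EtCoh.pull g').obj ((EtCoh.pull b).obj K))
  haveI := pull_isEquivalence_of_surjective f'
  exact isIso_map_unit_of_square (EtCoh.pullPushAdj b) (EtMVLib.sqIso b g f' g' sq.w) K
    ((EtCoh.pull f').map (EtCoh.baseChange0 b g f' g' sq.w ((EtCoh.pull b).obj K)) ≫
      (EtCoh.pullPushAdj f').counit.app ((EtCoh.pull g').obj ((EtCoh.pull b).obj K)))
    (EtMVLib.sqIso_counit b g f' g' sq.w ((EtCoh.pull b).obj K))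

/-- subsheaves of torsion sheaves are torsion -/
theorem isTorsion_of_mono {F G : EtCoh.Ab X} (a : F ⟶ G) [Mono a] (hG : EtCoh.IsTorsion G) :
    EtCoh.IsTorsion F := by
  refine (BCCrit13.isTorsion_iff_stalks F).2 fun Ω _ _ ξ t => ?_
  obtain ⟨m, hm, h⟩ := (BCCrit13.isTorsion_iff_stalks G).1 hG Ω ξ ((EtCoh.stalk ξ).map a t)
  refine ⟨m, hm, (mono_iff_stalks a).1 inferInstance Ω ξ ?_⟩
  exact (map_nsmul ((EtCoh.stalk ξ).map a).hom m t).trans (h.trans (map_zero _).symm)

/-- inverse images of torsion sheaves are torsion -/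
theorem isTorsion_pull (g : X' ⟶ X) {F : EtCoh.Ab X} (hF : EtCoh.IsTorsion F) :
    EtCoh.IsTorsion ((EtCoh.pull g).obj F) :=
  (BCCrit13.isLTorsion_univ_iff _).1 (isLTorsion_pull g Set.univ ((BCCrit13.isLTorsion_univ_iff _).2 hF))

theorem isZero_stalk_of_isZero_pull {W : Scheme.{u}} (g : W ⟶ X) (R : EtCoh.Ab X)
    (h : IsZero ((EtCoh.pull g).obj R)) {k : Type u} [Field k] [IsSepClosed k]
    (ξ : Spec (CommRingCat.of k) ⟶ X) (hξ : ξ.base (default : Spec (CommRingCat.of k)) ∈ Set.range g.base) :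
    IsZero ((EtCoh.stalk ξ).obj R) := by
  have h0 : IsIso ((EtCoh.stalk ξ).map (0 : R ⟶ R)) := isIso_stalk_of_lift g _ ξ hξ fun Ω _ _ z =>
    ((isZero_stalk_pull g R z).1 ((EtCoh.stalk z).map_isZero h)).isIso
      ((isZero_stalk_pull g R z).1 ((EtCoh.stalk z).map_isZero h)) _
  refine (IsZero.iff_id_eq_zero _).2 ?_
  rw [← @IsIso.hom_inv_id _ _ _ _ _ h0]
  have hz : (EtCoh.stalk ξ).map (0 : R ⟶ R) = 0 := Functor.map_zero _ _ _
  calc _ = (0 : (EtCoh.stalk ξ).obj R ⟶ (EtCoh.stalk ξ).obj R) ≫ _ := congrArg (· ≫ _) hz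
    _ = 0 := zero_comp

theorem isZero_stalk_of_restrict (U : X.Opens) (R : EtCoh.Ab X) (h : IsZero ((EtCoh.pull U.ι).obj R))
    {k : Type u} [Field k] [IsSepClosed k] (ξ : Spec (CommRingCat.of k) ⟶ X)
    (hξ : ξ.base (default : Spec (CommRingCat.of k)) ∈ U) : IsZero ((EtCoh.stalk ξ).obj R) :=
  isZero_stalk_of_isZero_pull U.ι R h ξ ((Scheme.Opens.range_ι U).symm ▸ hξ)

variable (b : X' ⟶ X) (i : Z ⟶ X) (U : X.Opens)

/-- the kernel of restriction to the closed subscheme -/
noncomputable def kerRes (F : EtCoh.Ab X) : EtCoh.Ab X := kernel ((EtCoh.pullPushAdj i).unit.app F)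

/-- the sequence `0 → K → F → i_* i⁻¹ F → 0` -/
noncomputable def resSeq (F : EtCoh.Ab X) : ShortComplex (EtCoh.Ab X) :=
  ShortComplex.mk (kernel.ι ((EtCoh.pullPushAdj i).unit.app F)) ((EtCoh.pullPushAdj i).unit.app F)
    (kernel.condition _)

variable [IsClosedImmersion i]

theorem isIso_pull_unit (F : EtCoh.Ab X) : IsIso ((EtCoh.pull i).map ((EtCoh.pullPushAdj i).unit.app F)) :=
  @IsIso.of_isIso_fac_right _ _ _ _ _ _ _ _ (counit_isIso_of_integral_univInj i ((EtCoh.pull i).obj F))
    (IsIso.id _) ((EtCoh.pullPushAdj i).left_triangle_components F)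

theorem resSeq_shortExact (F : EtCoh.Ab X) : (resSeq i F).ShortExact := by
  haveI : Epi ((EtCoh.pullPushAdj i).unit.app F) := (epi_iff_stalks _).2 fun Ω _ _ ξ => by
    by_cases h : ξ.base (default : Spec (CommRingCat.of Ω)) ∈ Set.range i.base
    · exact ((ConcreteCategory.isIso_iff_bijective _).1 (isIso_stalk_unit_closed i F ξ h)).2
    · exact fun t => ⟨0, @Subsingleton.elim _
        (AddCommGrpCat.subsingleton_of_isZero (isZero_stalk_push_closed i _ ξ h)) _ t⟩
  exact { exact := ShortComplex.exact_of_f_is_kernel _ (kernelIsKernel _)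
          mono_f := inferInstanceAs (Mono (kernel.ι _))
          epi_g := ‹_› }

theorem isZero_pull_kerRes [PreservesFiniteLimits (EtCoh.pull i)] (F : EtCoh.Ab X) :
    IsZero ((EtCoh.pull i).obj (kerRes i F)) := by
  haveI := isIso_pull_unit i F
  let η := (EtCoh.pullPushAdj i).unit.app F
  have h0 : (EtCoh.pull i).map (kernel.ι η) = 0 := by
    rw [← cancel_mono ((EtCoh.pull i).map η), ← Functor.map_comp, kernel.condition, Functor.map_zero,
      zero_comp]
  haveI : Mono ((EtCoh.pull i).map (kernel.ι η)) := inferInstance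
  exact @IsZero.of_mono_eq_zero _ _ _ _ _ _ this h0

omit [IsClosedImmersion i] in
theorem isTorsion_kerRes (F : EtCoh.Ab X) (hF : EtCoh.IsTorsion F) : EtCoh.IsTorsion (kerRes i F) :=
  show EtCoh.IsTorsion (kernel ((EtCoh.pullPushAdj i).unit.app F)) from
    BlowSq3.isTorsion_of_mono (kernel.ι ((EtCoh.pullPushAdj i).unit.app F)) hF

variable [IsProper b] [IsIso (b ∣_ U)] (hU : (U : Set X) = (Set.range i.base)ᶜ)

omit [IsClosedImmersion i] [IsProper b] [IsIso (b ∣_ U)] in
theorem isZero_pull_fibre (K : EtCoh.Ab X) (hK : IsZero ((EtCoh.pull i).obj K)) :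
    IsZero ((EtCoh.pull (pullback.fst b i)).obj ((EtCoh.pull b).obj K)) := by
  refine IsZero.of_iso ?_ (((θPull (pullback.fst b i) b (pullback.fst b i ≫ b) rfl).app K))
  exact IsZero.of_iso ((EtCoh.pull (pullback.snd b i)).map_isZero hK)
    ((θPull (pullback.snd b i) i (pullback.fst b i ≫ b) pullback.condition.symm).app K).symm

include hU in
/-- the higher direct images vanish -/
theorem isZero_Rpush_pull (K : EtCoh.Ab X) (hKt : EtCoh.IsTorsion K) (hK : IsZero ((EtCoh.pull i).obj K))
    (q : ℕ) (hq : 0 < q) : IsZero ((EtCoh.Rpush b q).obj ((EtCoh.pull b).obj K)) := by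
  refine (isZero_iff_stalks _).2 fun Ω _ _ ξ => ?_
  have hN := BlowSq3.isTorsion_pull b hKt
  by_cases h : ξ.base (default : Spec (CommRingCat.of Ω)) ∈ Set.range i.base
  · obtain ⟨e⟩ := GabberAff13.cohCommutes_of_isProper b (pullback.snd b i) (pullback.fst b i) i
      (IsPullback.of_hasPullback b i) _ hN q
    exact isZero_stalk_of_isZero_pull i _
      (IsZero.of_iso ((EtCoh.Rpush (pullback.snd b i) q).map_isZero (isZero_pull_fibre b i K hK)) e) ξ h
  · obtain ⟨e⟩ := GabberAff13.cohCommutes_of_isProper b (b ∣_ U) (b ⁻¹ᵁ U).ι U.ι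
      (isPullback_morphismRestrict b U).flip _ hN q
    refine isZero_stalk_of_restrict U _ (IsZero.of_iso (isZero_Rpush_of_integral (b ∣_ U) _ q hq) e) ξ ?_
    show ξ.base default ∈ (U : Set X)
    rw [hU]
    exact h

include hU in
/-- the sheaf is the direct image of its inverse image -/
theorem isIso_unit_pull (K : EtCoh.Ab X) (hKt : EtCoh.IsTorsion K) (hK : IsZero ((EtCoh.pull i).obj K)) :
    IsIso ((EtCoh.pullPushAdj b).unit.app K) := by
  have hN := BlowSq3.isTorsion_pull b hKt
  refine (isIso_iff_stalks _).2 fun Ω _ _ ξ => ?_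
  by_cases h : ξ.base (default : Spec (CommRingCat.of Ω)) ∈ Set.range i.base
  · have h1 := isZero_stalk_of_isZero_pull i K hK ξ h
    haveI := ProperBC13.isIso_baseChange0 b i (pullback.snd b i) (pullback.fst b i)
      (IsPullback.of_hasPullback b i) ((EtCoh.pull b).obj K)
    have h2 : IsZero ((EtCoh.stalk ξ).obj ((EtCoh.push b).obj ((EtCoh.pull b).obj K))) :=
      isZero_stalk_of_isZero_pull i _ (IsZero.of_iso
        ((EtCoh.push (pullback.snd b i)).map_isZero (isZero_pull_fibre b i K hK))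
        (asIso (EtCoh.baseChange0 b i (pullback.snd b i) (pullback.fst b i) _ _))) ξ h
    exact h1.isIso h2 _
  · refine isIso_stalk_of_lift U.ι _ ξ ?_ fun k _ _ z => ?_
    rotate_left
    · exact (NatIso.isIso_map_iff (stalkPullIso U.ι z) _).1 (@Functor.map_isIso _ _ _ _ _ _ (EtCoh.stalk z)
        ((EtCoh.pull U.ι).map ((EtCoh.pullPushAdj b).unit.app K))
        (isIso_pull_unit_of_square b U.ι (b ∣_ U) (b ⁻¹ᵁ U).ι (isPullback_morphismRestrict b U).flip K))
    rw [Scheme.Opens.range_ι, hU]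
    exact h

include hU in
theorem Hpull_kerRes_bijective [PreservesFiniteLimits (EtCoh.pull b)] [PreservesFiniteLimits (EtCoh.pull i)]
    (F : EtCoh.Ab X) (hF : EtCoh.IsTorsion F) (p : ℕ) :
    Function.Bijective (EtCore.Hpull b (kerRes i F) p) :=
  Hpull_bijective_of_unit b _ (isIso_unit_pull b i U hU _ (isTorsion_kerRes i F hF) (isZero_pull_kerRes i F))
    (isZero_Rpush_pull b i U hU _ (isTorsion_kerRes i F hF) (isZero_pull_kerRes i F)) p

omit [IsProper b] [IsIso (b ∣_ U)] in
/-- cohomology of the sheaf pushed from the centre, on the exceptional divisor -/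
theorem Hpull_exceptional_bijective [PreservesFiniteLimits (EtCoh.pull (pullback.fst b i))]
    (G : EtCoh.Ab Z) (p : ℕ) :
    Function.Bijective (EtCore.Hpull (pullback.fst b i) ((EtCoh.pull b).obj ((EtCoh.push i).obj G)) p) := by
  refine Hpull_bijective_of_unit _ _ (unit_isIso_of_supp _ _ fun k _ _ ξ hξ => ?_)
    (fun q hq => isZero_Rpush_of_integral _ _ q hq) p
  refine (isZero_stalk_pull b _ ξ).2 (isZero_stalk_push_closed i G (ξ ≫ b) fun h => hξ ?_)
  rw [Scheme.Pullback.range_fst]
  show b.base (ξ.base default) ∈ Set.range i.base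
  rwa [Scheme.Hom.comp_apply] at h

end Groth.Agent.BlowSq3
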