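import Groth.Agent.BlowSq3.Main
import Groth.Agent.EtLimit.Const

/-!
# The long exact sequence of an abstract blow-up square
-/

set_option autoImplicit false
set_option linter.style.haveILetI false
set_option backward.isDefEq.respectTransparency.types false
set_option maxHeartbeats 1600000

universe u

open CategoryTheory CategoryTheory.Limits AlgebraicGeometry Opposite

namespace Groth.Agent.BlowSq3

open Groth.Agent.EtLimit Groth.Agent.EtFound

variable {X X' Z : Scheme.{u}} (b : X' ⟶ X) (i : Z ⟶ X) (U : X.Opens) [IsProper b] [IsClosedImmersion i]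
  [IsIso (b ∣_ U)]

theorem HpullVia_eq_hThen {A B C : Scheme.{u}} (f : A ⟶ B) (t : B ⟶ C) (f₀ : A ⟶ C) (w : f ≫ t = f₀)
    [PreservesFiniteLimits (EtCoh.pull f)] (G : EtCoh.Ab C) (p : ℕ) (ξ : EtCoh.H B ((EtCoh.pull t).obj G) p) :
    EtCore.HpullVia f t f₀ w G p ξ = hThen f ((EtCoh.pull t).obj G) ((θPull f t f₀ w).hom.app G) p ξ :=
  HpullVia_eq f t f₀ w G p ξ

section compat

variable {A B B' C : Scheme.{u}} (j : A ⟶ B) (t : B ⟶ C) (π : A ⟶ B') (t' : B' ⟶ C) (c : A ⟶ C) (hj : j ≫ t = c)
  (hπ : π ≫ t' = c) [PreservesFiniteLimits (EtCoh.pull j)] [PreservesFiniteLimits (EtCoh.pull t)]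
  [PreservesFiniteLimits (EtCoh.pull π)] [PreservesFiniteLimits (EtCoh.pull t')]
  [PreservesFiniteLimits (EtCoh.pull c)] {F P : EtCoh.Ab C} (η : F ⟶ P) [IsIso ((EtCoh.pull c).map η)]

/-- the identification of the last term -/
noncomputable def lastHom : (EtCoh.pull j).obj ((EtCoh.pull t).obj P) ⟶ (EtCoh.pull c).obj F :=
  (θPull j t c hj).hom.app P ≫ inv ((EtCoh.pull c).map η)

instance : IsIso (lastHom j t c hj η) := by delta lastHom; infer_instance

omit [IsProper b] [IsClosedImmersion i] [IsIso (b ∣_ U)] in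
theorem lastHom_fst (n : ℕ) (u : EtCoh.H B ((EtCoh.pull t).obj F) n) :
    hThen j ((EtCoh.pull t).obj P) (lastHom j t c hj η) n (hmap ((EtCoh.pull t).map η) n u) =
      hThen j ((EtCoh.pull t).obj F) ((θPull j t c hj).hom.app F) n u := by
  refine (HpullThen_hmap j ((θPull j t c hj).hom.app F) (lastHom j t c hj η) ((EtCoh.pull t).map η) (𝟙 _) ?_ n u).trans
    (CohCrit13.hmap_id n _)
  refine Eq.trans ?_ (Category.comp_id _).symm
  refine (Category.assoc _ _ _).symm.trans ?_
  refine (congrArg (· ≫ inv ((EtCoh.pull c).map η)) ((θPull j t c hj).hom.naturality η)).trans ?_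
  exact (Category.assoc _ _ _).trans ((congrArg (_ ≫ ·) (IsIso.hom_inv_id _)).trans (Category.comp_id _))

omit [IsProper b] [IsClosedImmersion i] [IsIso (b ∣_ U)] in
theorem lastHom_snd (ε : (EtCoh.pull t').obj P ⟶ (EtCoh.pull t').obj F) (hε : ε ≫ (EtCoh.pull t').map η = 𝟙 _)
    (n : ℕ) (y : EtCoh.H C P n) :
    hThen j ((EtCoh.pull t).obj P) (lastHom j t c hj η) n (EtCore.Hpull t P n y) =
      hThen π ((EtCoh.pull t').obj F) ((θPull π t' c hπ).hom.app F) n (hThen t' P ε n y) := by
  refine ((congrArg _ (CohCrit13.hThen_id t n y).symm).trans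
    (hThen_comp j t c hj (𝟙 _) (lastHom j t c hj η) (inv ((EtCoh.pull c).map η)) ?_ n y)).trans
    (hThen_comp π t' c hπ ε ((θPull π t' c hπ).hom.app F) (inv ((EtCoh.pull c).map η)) ?_ n y).symm
  · exact ((congrArg (· ≫ lastHom j t c hj η) ((EtCoh.pull j).map_id _)).trans (Category.id_comp _)).symm
  · rw [IsIso.comp_inv_eq]
    refine ((Category.assoc _ _ _).trans ((congrArg (_ ≫ ·) ((θPull π t' c hπ).hom.naturality η).symm).trans ?_)).symm
    refine (Category.assoc _ _ _).symm.trans ?_
    exact (congrArg (· ≫ (θPull π t' c hπ).hom.app P)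
      (((EtCoh.pull π).map_comp ε ((EtCoh.pull t').map η)).symm.trans
        ((congrArg (EtCoh.pull π).map hε).trans ((EtCoh.pull π).map_id _)))).trans (Category.id_comp _)

end compat

/-- the direct image of the restriction -/
noncomputable def pushPull (F : EtCoh.Ab X) : EtCoh.Ab X := (EtCoh.push i).obj ((EtCoh.pull i).obj F)

/-- the restriction map -/
noncomputable def resHom (F : EtCoh.Ab X) : F ⟶ pushPull i F := (EtCoh.pullPushAdj i).unit.app F

/-- its adjoint -/
noncomputable def resCounit (F : EtCoh.Ab X) : (EtCoh.pull i).obj (pushPull i F) ⟶ (EtCoh.pull i).obj F :=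
  (EtCoh.pullPushAdj i).counit.app ((EtCoh.pull i).obj F)

omit [IsProper b] [IsIso (b ∣_ U)] in
theorem counit_unit (F : EtCoh.Ab X) : resCounit i F ≫ (EtCoh.pull i).map (resHom i F) = 𝟙 _ := by
  haveI : IsIso ((EtCoh.pull i).map (resHom i F)) := isIso_pull_unit i F
  rw [← cancel_epi ((EtCoh.pull i).map (resHom i F)), ← Category.assoc]
  refine (congrArg (· ≫ (EtCoh.pull i).map (resHom i F)) ?_).trans
    ((Category.id_comp _).trans (Category.comp_id _).symm)
  exact (EtCoh.pullPushAdj i).left_triangle_components F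

omit [IsProper b] [IsIso (b ∣_ U)] in
theorem hofPush_resHom [PreservesFiniteLimits (EtCoh.pull i)] (F : EtCoh.Ab X) (n : ℕ) (x : EtCoh.H X F n) :
    hThen i (pushPull i F) (resCounit i F) n (hmap (resHom i F) n x) = EtCore.Hpull i F n x :=
  hofPush_hmap_unit i F n x

omit [IsProper b] [IsIso (b ∣_ U)] in
theorem hThen_resCounit_bijective [PreservesFiniteLimits (EtCoh.pull i)] (F : EtCoh.Ab X) (n : ℕ) :
    Function.Bijective (hThen i (pushPull i F) (resCounit i F) n) :=
  BigSiteLib.hofPush_bijective i _ (fun q hq => isZero_Rpush_of_integral i _ q hq) n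

/-- the sequence before the identifications -/
theorem midSeq (hU : (U : Set X) = (Set.range i.base)ᶜ) [PreservesFiniteLimits (EtCoh.pull b)]
    [PreservesFiniteLimits (EtCoh.pull i)] (F : EtCoh.Ab X) (hF : EtCoh.IsTorsion F) :
    ∃ δ : ∀ n, EtCoh.H X' ((EtCoh.pull b).obj (pushPull i F)) n →+ EtCoh.H X F (n + 1),
      Function.Injective (fun x : EtCoh.H X F 0 => (EtCore.Hpull b F 0 x, hmap (resHom i F) 0 x)) ∧
      ∀ n, Function.Exact (fun x : EtCoh.H X F n => (EtCore.Hpull b F n x, hmap (resHom i F) n x))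
          (fun uv : EtCoh.H X' ((EtCoh.pull b).obj F) n × EtCoh.H X (pushPull i F) n =>
            hmap ((EtCoh.pull b).map (resHom i F)) n uv.1 - EtCore.Hpull b (pushPull i F) n uv.2) ∧
        Function.Exact
          (fun uv : EtCoh.H X' ((EtCoh.pull b).obj F) n × EtCoh.H X (pushPull i F) n =>
            hmap ((EtCoh.pull b).map (resHom i F)) n uv.1 - EtCore.Hpull b (pushPull i F) n uv.2) (δ n) ∧
        Function.Exact (δ n) (fun x : EtCoh.H X F (n + 1) => (EtCore.Hpull b F (n + 1) x, hmap (resHom i F) (n + 1) x)) := by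
  let S : ShortComplex (EtCoh.Ab X) :=
    ShortComplex.mk (kernel.ι (resHom i F)) (resHom i F) (kernel.condition _)
  have hS : S.ShortExact := resSeq_shortExact i F
  exact les_mayerVietoris (cohLES hS) (cohLES (hS.map_of_exact (EtCoh.pull b)))
    (fun n => EtCore.Hpull b S.X₁ n) (fun n => EtCore.Hpull b S.X₂ n) (fun n => EtCore.Hpull b S.X₃ n)
    (fun n x => CohCrit13.Hpull_hmap b S.f n x) (fun n x => CohCrit13.Hpull_hmap b S.g n x)
    (fun n x => CohCrit13.Hpull_hδ b hS (hS.map_of_exact (EtCoh.pull b)) rfl x)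
    (fun n => Hpull_kerRes_bijective b i U hU F hF n)

/-- The long exact cohomology sequence of an abstract blow-up square with torsion coefficients. -/
theorem blowUpSquare (hU : (U : Set X) = (Set.range i.base)ᶜ)
    [PreservesFiniteLimits (EtCoh.pull b)] [PreservesFiniteLimits (EtCoh.pull i)]
    [PreservesFiniteLimits (EtCoh.pull (pullback.fst b i))] [PreservesFiniteLimits (EtCoh.pull (pullback.snd b i))]
    (F : EtCoh.Ab X) (hF : EtCoh.IsTorsion F) :
    ∃ δ : ∀ p : ℕ, EtCoh.H (pullback b i) ((EtCoh.pull (pullback.fst b i ≫ b)).obj F) p →+ EtCoh.H X F (p + 1),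
      Function.Injective (fun e : EtCoh.H X F 0 => (EtCore.Hpull b F 0 e, EtCore.Hpull i F 0 e)) ∧
      ∀ p : ℕ,
        Function.Exact (fun e : EtCoh.H X F p => (EtCore.Hpull b F p e, EtCore.Hpull i F p e))
          (fun uv : EtCoh.H X' ((EtCoh.pull b).obj F) p × EtCoh.H Z ((EtCoh.pull i).obj F) p =>
            EtCore.HpullVia (pullback.fst b i) b (pullback.fst b i ≫ b) rfl F p uv.1 -
            EtCore.HpullVia (pullback.snd b i) i (pullback.fst b i ≫ b) pullback.condition.symm F p uv.2) ∧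
        Function.Exact
          (fun uv : EtCoh.H X' ((EtCoh.pull b).obj F) p × EtCoh.H Z ((EtCoh.pull i).obj F) p =>
            EtCore.HpullVia (pullback.fst b i) b (pullback.fst b i ≫ b) rfl F p uv.1 -
            EtCore.HpullVia (pullback.snd b i) i (pullback.fst b i ≫ b) pullback.condition.symm F p uv.2)
          (δ p) ∧
        Function.Exact (δ p)
          (fun e : EtCoh.H X F (p + 1) => (EtCore.Hpull b F (p + 1) e, EtCore.Hpull i F (p + 1) e)) := by
  let jE := pullback.fst b i
  let π := pullback.snd b i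
  have hc : π ≫ i = jE ≫ b := pullback.condition.symm
  haveI : PreservesFiniteLimits (EtCoh.pull (jE ≫ b)) := pull_preservesFiniteLimits _
  haveI : IsIso ((EtCoh.pull i).map (resHom i F)) := isIso_pull_unit i F
  haveI : IsIso ((EtCoh.pull (jE ≫ b)).map (resHom i F)) :=
    (NatIso.isIso_map_iff (θPull π i (jE ≫ b) hc) (resHom i F)).1
      (Functor.map_isIso (EtCoh.pull π) ((EtCoh.pull i).map (resHom i F)))
  obtain ⟨δ, hinj, hex⟩ := midSeq b i U hU F hF
  have hψ : ∀ n (u : EtCoh.H X' ((EtCoh.pull b).obj F) n) (y : EtCoh.H X (pushPull i F) n),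
      EtCore.HpullVia jE b (jE ≫ b) rfl F n u -
          EtCore.HpullVia π i (jE ≫ b) hc F n (hThen i (pushPull i F) (resCounit i F) n y) =
        hThen jE ((EtCoh.pull b).obj (pushPull i F)) (lastHom jE b (jE ≫ b) rfl (resHom i F)) n
          (hmap ((EtCoh.pull b).map (resHom i F)) n u - EtCore.Hpull b (pushPull i F) n y) := fun n u y => by
    rw [map_sub, HpullVia_eq_hThen, HpullVia_eq_hThen, lastHom_fst jE b (jE ≫ b) rfl (resHom i F) n u,
      lastHom_snd jE b π i (jE ≫ b) rfl hc (resHom i F) (resCounit i F) (counit_unit i F) n y]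
  exact transport_mayerVietoris
    (fun n => hThen i (pushPull i F) (resCounit i F) n) (fun n => hThen_resCounit_bijective i F n)
    (fun n => hThen jE ((EtCoh.pull b).obj (pushPull i F)) (lastHom jE b (jE ≫ b) rfl (resHom i F)) n)
    (fun n => (CohCrit13.hmap_bijective_of_isIso (lastHom jE b (jE ≫ b) rfl (resHom i F)) n).comp
      (Hpull_exceptional_bijective b i ((EtCoh.pull i).obj F) n))
    (φ' := fun n x => (EtCore.Hpull b F n x, EtCore.Hpull i F n x))
    (ψ' := fun n uv => EtCore.HpullVia jE b (jE ≫ b) rfl F n uv.1 - EtCore.HpullVia π i (jE ≫ b) hc F n uv.2)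
    (φ := fun n x => (EtCore.Hpull b F n x, hmap (resHom i F) n x))
    (ψ := fun n uv => hmap ((EtCoh.pull b).map (resHom i F)) n uv.1 - EtCore.Hpull b (pushPull i F) n uv.2)
    δ (fun n x => Prod.ext rfl (hofPush_resHom i F n x).symm) hψ hinj hex

end Groth.Agent.BlowSq3
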